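import Cfsg.Agent.Mrg.LargeExtra.WN3

/-!
# Type `R` does not occur: `Four.not_isR`
-/

set_option autoImplicit false

namespace Cfsg.Agent.WCLarge.NotR

open Cfsg.Agent.Fischer480.Defs Cfsg.Agent.Omega.Exit.Types

/-- a nonzero vector orthogonal to `k < n` vectors -/
theorem exists_perp {n : ℕ} (B : LinearMap.BilinForm (ZMod 3) (Fin n → ZMod 3)) {k : ℕ} (hk : k < n)
    (u : Fin k → Fin n → ZMod 3) : ∃ w : Fin n → ZMod 3, w ≠ 0 ∧ ∀ i, B w (u i) = 0 := by
  let L : (Fin n → ZMod 3) →ₗ[ZMod 3] (Fin k → ZMod 3) := LinearMap.pi fun i => B.flip (u i)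
  have h1 : LinearMap.ker L ≠ ⊥ := by
    apply LinearMap.ker_ne_bot_of_finrank_lt
    simpa using hk
  obtain ⟨w, hw, hw0⟩ := (Submodule.ne_bot_iff _).1 h1
  refine ⟨w, hw0, fun i => ?_⟩
  exact congrFun (LinearMap.mem_ker.1 hw) i

/-- a singular nonzero vector orthogonal to three vectors, dimension at least six -/
theorem exists_singular {n : ℕ} (hn : 6 ≤ n) (B : LinearMap.BilinForm (ZMod 3) (Fin n → ZMod 3))
    (hs : B.IsSymm) (x y a : Fin n → ZMod 3) :
    ∃ w : Fin n → ZMod 3, w ≠ 0 ∧ B w w = 0 ∧ B w x = 0 ∧ B w y = 0 ∧ B w a = 0 := by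
  have hsymm : ∀ u v, B u v = B v u := fun u v => by
    have := hs.eq u v
    simpa using this
  obtain ⟨w1, h10, h1⟩ := exists_perp B (k := 3) (by omega) ![x, y, a]
  obtain ⟨w2, h20, h2⟩ := exists_perp B (k := 4) (by omega) ![x, y, a, w1]
  obtain ⟨w3, h30, h3⟩ := exists_perp B (k := 5) (by omega) ![x, y, a, w1, w2]
  have x1 : B w1 x = 0 := h1 0
  have y1 : B w1 y = 0 := h1 1
  have a1 : B w1 a = 0 := h1 2
  have x2 : B w2 x = 0 := h2 0
  have y2 : B w2 y = 0 := h2 1
  have a2 : B w2 a = 0 := h2 2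
  have w21 : B w2 w1 = 0 := h2 3
  have x3 : B w3 x = 0 := h3 0
  have y3 : B w3 y = 0 := h3 1
  have a3 : B w3 a = 0 := h3 2
  have w31 : B w3 w1 = 0 := h3 3
  have w32 : B w3 w2 = 0 := h3 4
  have w12 : B w1 w2 = 0 := by rw [hsymm]; exact w21
  have w13 : B w1 w3 = 0 := by rw [hsymm]; exact w31
  have w23 : B w2 w3 = 0 := by rw [hsymm]; exact w32
  by_cases c1 : B w1 w1 = 0
  · exact ⟨w1, h10, c1, x1, y1, a1⟩
  by_cases c2 : B w2 w2 = 0
  · exact ⟨w2, h20, c2, x2, y2, a2⟩
  by_cases c3 : B w3 w3 = 0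
  · exact ⟨w3, h30, c3, x3, y3, a3⟩
  have t : ∀ p q r : ZMod 3, p ≠ 0 → q ≠ 0 → r ≠ 0 → p + q = 0 ∨ p + q + r = 0 ∨ p + r = 0 := by decide
  rcases t _ _ _ c1 c2 c3 with h | h | h
  · refine ⟨w1 + w2, ?_, ?_, ?_, ?_, ?_⟩
    · intro h0
      apply c1
      have : B w1 (w1 + w2) = 0 := by rw [h0, map_zero]
      rwa [map_add, w12, add_zero] at this
    · simp only [map_add, LinearMap.add_apply, w12, w21, add_zero, zero_add]; exact h
    · simp only [map_add, LinearMap.add_apply, x1, x2, add_zero]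
    · simp only [map_add, LinearMap.add_apply, y1, y2, add_zero]
    · simp only [map_add, LinearMap.add_apply, a1, a2, add_zero]
  · refine ⟨w1 + w2 + w3, ?_, ?_, ?_, ?_, ?_⟩
    · intro h0
      apply c1
      have : B w1 (w1 + w2 + w3) = 0 := by rw [h0, map_zero]
      rwa [map_add, map_add, w12, w13, add_zero, add_zero] at this
    · simp only [map_add, LinearMap.add_apply, w12, w21, w13, w31, w23, w32, add_zero, zero_add]
      exact h
    · simp only [map_add, LinearMap.add_apply, x1, x2, x3, add_zero]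
    · simp only [map_add, LinearMap.add_apply, y1, y2, y3, add_zero]
    · simp only [map_add, LinearMap.add_apply, a1, a2, a3, add_zero]
  · refine ⟨w1 + w3, ?_, ?_, ?_, ?_, ?_⟩
    · intro h0
      apply c1
      have : B w1 (w1 + w3) = 0 := by rw [h0, map_zero]
      rwa [map_add, w13, add_zero] at this
    · simp only [map_add, LinearMap.add_apply, w13, w31, add_zero, zero_add]; exact h
    · simp only [map_add, LinearMap.add_apply, x1, x3, add_zero]
    · simp only [map_add, LinearMap.add_apply, y1, y3, add_zero]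
    · simp only [map_add, LinearMap.add_apply, a1, a3, add_zero]

/-- type `R` -/
theorem not_isR {G : Type*} [Group G] {D : Set G} {x y a b : G} (H : Four D x y a b) {n : ℕ} (hn : 6 ≤ n) :
    ¬ IsR n D := by
  rintro ⟨B, f, hs, hnd, h1, hcomm, hinj, hsurj⟩
  have hsymm : ∀ u v, B u v = B v u := fun u v => by
    have := hs.eq u v
    simpa using this
  have bxy : B (f x) (f y) = 0 := ((hcomm x H.hx y H.hy).1 H.cxy).resolve_left H.xy
  have bxa : B (f x) (f a) = 0 := ((hcomm x H.hx a H.ha).1 H.cxa).resolve_left H.xa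
  have bya : B (f y) (f a) = 0 := ((hcomm y H.hy a H.ha).1 H.cya).resolve_left H.ya
  have bax : B (f a) (f x) = 0 := by rw [hsymm]; exact bxa
  have bay : B (f a) (f y) = 0 := by rw [hsymm]; exact bya
  obtain ⟨w, hw0, hww, hwx, hwy, hwa⟩ := exists_singular hn B hs (f x) (f y) (f a)
  have haw : B (f a) w = 0 := by rw [hsymm]; exact hwa
  have hv : B (f a + w) (f a + w) = 1 := by
    simp only [map_add, LinearMap.add_apply, hww, hwa, haw, add_zero, h1 a H.ha]
  obtain ⟨d, hd, hdv⟩ := hsurj _ hv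
  have hv1 : B (f a + w) (f x) = 0 := by
    rw [map_add, LinearMap.add_apply, bax, hwx, add_zero]
  have hv2 : B (f a + w) (f y) = 0 := by
    rw [map_add, LinearMap.add_apply, bay, hwy, add_zero]
  have hv3 : B (f a + w) (f a) = 1 := by
    rw [map_add, LinearMap.add_apply, h1 a H.ha, hwa, add_zero]
  have key : ∀ u, B (f a + w) u = 0 → B (f d) u = 0 := by
    intro u hu
    rcases hdv with h | h
    · rw [← h]; exact hu
    · rw [h, map_neg, LinearMap.neg_apply, neg_eq_zero] at hu
      exact hu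
  have hdx : Commute d x := (hcomm d hd x H.hx).2 (Or.inr (key _ hv1))
  have hdy : Commute d y := (hcomm d hd y H.hy).2 (Or.inr (key _ hv2))
  have hda := H.da d hd hdx hdy
  rcases (hcomm d hd a H.ha).1 hda with h2 | h2
  · subst h2
    rcases hdv with h | h
    · exact hw0 (by simpa using h)
    · have h3 : B (f d + w) (f d) = -1 := by
        rw [h, map_neg, LinearMap.neg_apply, h1 d hd]
      rw [hv3] at h3
      exact absurd h3 (by decide)
  · rcases hdv with h | h
    · rw [h] at hv3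
      rw [h2] at hv3
      exact absurd hv3 (by decide)
    · rw [h, map_neg, LinearMap.neg_apply, h2] at hv3
      exact absurd hv3 (by decide)

end Cfsg.Agent.WCLarge.NotR
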