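import Cfsg.Agent.Co2Type.Quad
import Cfsg.Agent.Lib.MinNormalNonabelian
import Cfsg.Agent.Lib.Cores
import Cfsg.Agent.SmallSimple.EvenOrder

/-!
# S1760: the reduction to `F*(G)` simple

`G` a finite group without nontrivial normal subgroup of odd order, `Large Q z`, `z` not central and weakly closed in
`Q`: the normal closure of `z` is a non-abelian simple group with trivial centraliser.
-/

set_option autoImplicit false

namespace Cfsg.Agent.WCLarge.Reduce

open Cfsg.Agent.Co2Type.Quad Cfsg.Agent.Lib.MinNormalNonabelian Cfsg.Agent.Lib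

/-- the setting of S1760 with `z` not central and weakly closed -/
structure Setup {G : Type*} [Group G] (Q : Subgroup G) (z : G) : Prop where
  large : Large Q z
  core : ∀ N : Subgroup G, (∀ n ∈ N, n * z = z * n) → (∀ c, c * z = z * c → ∀ n ∈ N, c * n * c⁻¹ ∈ N) →
    IsPGroup 2 N → N ≤ Q
  wc : ∀ g : G, g * z * g⁻¹ ∈ Q → g * z * g⁻¹ = z
  odd : ∀ N : Subgroup G, N.Normal → Odd (Nat.card N) → N = ⊥
  ncen : ∃ g : G, g * z * g⁻¹ ≠ z

variable {G : Type*} [Group G] {Q : Subgroup G} {z : G}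

/-- conjugation by `z` on a subgroup normalised by `z` -/
def conjHom (N : Subgroup G) (z : G) (hN : ∀ n ∈ N, z * n * z⁻¹ ∈ N) : N →* N where
  toFun n := ⟨z * n * z⁻¹, hN n n.2⟩
  map_one' := Subtype.ext (by show z * 1 * z⁻¹ = 1; group)
  map_mul' a b := Subtype.ext (by
    show z * ((a : G) * b) * z⁻¹ = (z * a * z⁻¹) * (z * b * z⁻¹)
    group)

theorem fpf [Finite G] (N : Subgroup G) (hzz : z * z = 1) (hN : ∀ n ∈ N, z * n * z⁻¹ ∈ N)
    (h : ∀ n ∈ N, n * z = z * n → n = 1) :
    (∀ a ∈ N, ∀ b ∈ N, Commute a b) ∧ Odd (Nat.card N) := by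
  have h1 : MonoidHom.FixedPointFree (conjHom N z hN) := by
    intro n hn
    apply Subtype.ext
    apply h n n.2
    have h2 : z * (n : G) * z⁻¹ = n := congrArg Subtype.val hn
    rw [mul_inv_eq_iff_eq_mul] at h2
    exact h2.symm
  have h2 : Function.Involutive (conjHom N z hN) := by
    intro n
    apply Subtype.ext
    show z * (z * (n : G) * z⁻¹) * z⁻¹ = n
    calc z * (z * (n : G) * z⁻¹) * z⁻¹ = (z * z) * n * (z * z)⁻¹ := by group
      _ = n := by rw [hzz]; group
  refine ⟨fun a ha b hb => ?_, h1.odd_card_of_involutive h2⟩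
  have h3 := h1.commute_all_of_involutive h2 ⟨a, ha⟩ ⟨b, hb⟩
  exact congrArg Subtype.val h3.eq

namespace Setup

variable (S : Setup Q z)
include S

theorem zz : z * z = 1 := S.large.z_sq

theorem z_inv : z⁻¹ = z := S.large.z_inv

/-- `z` lies in each subgroup `M` normalised by `Q` with `M ∩ Q ≠ 1` -/
theorem mem_of_inf {M : Subgroup G} (hM : ∀ q ∈ Q, ∀ m ∈ M, q * m * q⁻¹ ∈ M) {x : G} (hx : x ∈ M)
    (hxQ : x ∈ Q) (h1 : x ≠ 1) : z ∈ M := by
  by_cases hxz : x = z
  · rw [← hxz]; exact hx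
  by_contra hz
  apply h1
  have h2 : ∀ y ∈ Q, x * y = y * x := by
    intro y hy
    rcases S.large.comm y hy x hxQ with h | h
    · exact h.symm
    · exfalso
      apply hz
      have h3 := mul_mem (inv_mem hx) (hM y hy x hx)
      have h4 : x⁻¹ * (y * x * y⁻¹) = z := by
        rw [h]
        have h5 := S.large.comm_z y hy
        calc x⁻¹ * (x * y * z * y⁻¹) = (y * z) * y⁻¹ := by group
          _ = z * y * y⁻¹ := by rw [h5]
          _ = z := by group
      rwa [h4] at h3
  rcases S.large.cent x hxQ h2 with h | h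
  · exact h
  · exact absurd h hxz

/-- `z` lies in every nontrivial normal subgroup -/
theorem mem_normal [Finite G] (N : Subgroup G) (hN : N.Normal) (hne : N ≠ ⊥) : z ∈ N := by
  by_cases h : ∀ n ∈ N, n * z = z * n → n = 1
  · exact absurd (S.odd N hN (fpf N S.zz (fun n hn => hN.conj_mem n hn z) h).2) hne
  push Not at h
  obtain ⟨x, hx, hxz, hx1⟩ := h
  by_contra hz
  have hd : ∀ y ∈ N, y ∈ Q → y = 1 := by
    intro y hy hyQ
    by_contra hy1
    exact hz (S.mem_of_inf (fun q _ m hm => hN.conj_mem m hm q) hy hyQ hy1)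
  have hxQ : x ∈ Q := by
    refine S.large.self x hxz fun q hq => ?_
    have h1 : x * q * x⁻¹ * q⁻¹ = 1 := by
      apply hd
      · have h2 := N.mul_mem hx (hN.conj_mem _ (N.inv_mem hx) q)
        have h3 : x * (q * x⁻¹ * q⁻¹) = x * q * x⁻¹ * q⁻¹ := by group
        rwa [h3] at h2
      · exact Q.mul_mem (S.large.conj_mem x hxz q hq) (Q.inv_mem hq)
    rw [mul_inv_eq_one, mul_inv_eq_iff_eq_mul] at h1
    exact h1
  exact hx1 (hd x hx hxQ)

/-- the normal closure of `z` -/
theorem le_of_normal [Finite G] (N : Subgroup G) (hN : N.Normal) (hne : N ≠ ⊥) :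
    Subgroup.normalClosure ({z} : Set G) ≤ N := by
  apply Subgroup.normalClosure_le_normal
  rintro x rfl
  exact S.mem_normal N hN hne

theorem z_mem_L : z ∈ Subgroup.normalClosure ({z} : Set G) := Subgroup.subset_normalClosure rfl

/-- the centraliser of `Q ∩ L` in `C_L(z)` lies in `Q` -/
theorem self_L (L : Subgroup G) (hL : L.Normal) {y : G} (hy : y ∈ L) (hyz : y * z = z * y)
    (hyQ : ∀ g ∈ Q, g ∈ L → y * g = g * y) : y ∈ Q := by
  have hzz := S.zz
  let Y : Subgroup G :=
    { carrier := {y | y ∈ L ∧ y * z = z * y ∧ ∀ g ∈ Q, g ∈ L → y * g = g * y}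
      one_mem' := ⟨L.one_mem, by group, fun g _ _ => by group⟩
      mul_mem' := by
        rintro a b ⟨ha1, ha2, ha3⟩ ⟨hb1, hb2, hb3⟩
        refine ⟨L.mul_mem ha1 hb1, ?_, fun g hg hgL => ?_⟩
        · rw [mul_assoc, hb2, ← mul_assoc, ha2, mul_assoc]
        · rw [mul_assoc, hb3 g hg hgL, ← mul_assoc, ha3 g hg hgL, mul_assoc]
      inv_mem' := by
        rintro a ⟨ha1, ha2, ha3⟩
        refine ⟨L.inv_mem ha1, ?_, fun g hg hgL => ?_⟩
        · rw [inv_mul_eq_iff_eq_mul, ← mul_assoc, ha2, mul_inv_cancel_right]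
        · rw [inv_mul_eq_iff_eq_mul, ← mul_assoc, ha3 g hg hgL, mul_inv_cancel_right] }
  have hY : Y ≤ Q := by
    refine S.core Y (fun n hn => hn.2.1) ?_ ?_
    · rintro c hc n ⟨h1, h2, h3⟩
      have hci : c⁻¹ * z = z * c⁻¹ := by rw [inv_mul_eq_iff_eq_mul, ← mul_assoc, hc, mul_inv_cancel_right]
      refine ⟨hL.conj_mem n h1 c, ?_, fun g hg hgL => ?_⟩
      · calc c * n * c⁻¹ * z = c * n * (c⁻¹ * z) := by group
          _ = c * (n * z) * c⁻¹ := by rw [hci]; group
          _ = (c * z) * n * c⁻¹ := by rw [h2]; group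
          _ = z * (c * n * c⁻¹) := by rw [hc]; group
      · have h4 := S.large.conj_mem c⁻¹ hci g hg
        rw [inv_inv] at h4
        have h5 : c⁻¹ * g * c ∈ L := by
          have := hL.conj_mem g hgL c⁻¹
          rwa [inv_inv] at this
        have h6 := h3 _ h4 h5
        calc c * n * c⁻¹ * g = c * (n * (c⁻¹ * g * c)) * c⁻¹ := by group
          _ = c * ((c⁻¹ * g * c) * n) * c⁻¹ := by rw [h6]
          _ = g * (c * n * c⁻¹) := by group
    · rintro ⟨y, h1, h2, h3⟩
      refine ⟨3, ?_⟩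
      apply Subtype.ext
      show y ^ (2 ^ 3) = 1
      -- `y² q y⁻² = k² q`
      have key : ∀ q ∈ Q, (y * y) * (y * y) * q = q * ((y * y) * (y * y)) := by
        intro q hq
        obtain ⟨k, hk⟩ : ∃ k, y * q * y⁻¹ * q⁻¹ = k := ⟨_, rfl⟩
        have hkQ : k ∈ Q := by
          rw [← hk]; exact Q.mul_mem (S.large.conj_mem y h2 q hq) (Q.inv_mem hq)
        have hkL : k ∈ L := by
          rw [← hk]
          have h5 := L.mul_mem h1 (hL.conj_mem _ (L.inv_mem h1) q)
          have h6 : y * (q * y⁻¹ * q⁻¹) = y * q * y⁻¹ * q⁻¹ := by group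
          rwa [h6] at h5
        have hyk := h3 k hkQ hkL
        have hyq : y * q = k * q * y := by rw [← hk]; group
        have h7 : (y * y) * q = k * k * q * (y * y) := by
          calc (y * y) * q = y * (y * q) := by group
            _ = (y * k) * q * y := by rw [hyq]; group
            _ = k * (y * q) * y := by rw [hyk]; group
            _ = k * k * q * (y * y) := by rw [hyq]; group
        have hkk : (y * y) * (k * k) = (k * k) * (y * y) := by
          have hc : Commute y k := hyk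
          exact ((hc.mul_left hc).mul_right (hc.mul_left hc)).eq
        have hk4 : k * k * (k * k) = 1 := by
          rcases S.large.sq k hkQ with h | h
          · rw [h, one_mul]
          · rw [h]; exact hzz
        calc (y * y) * (y * y) * q = (y * y) * ((y * y) * q) := by group
          _ = ((y * y) * (k * k)) * q * (y * y) := by rw [h7]; group
          _ = (k * k) * ((y * y) * q) * (y * y) := by rw [hkk]; group
          _ = (k * k * (k * k)) * q * ((y * y) * (y * y)) := by rw [h7]; group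
          _ = q * ((y * y) * (y * y)) := by rw [hk4, one_mul]
      have h4z : ((y * y) * (y * y)) * z = z * ((y * y) * (y * y)) := key z S.large.z_mem
      have h8 : (y * y) * (y * y) ∈ Q := S.large.self _ h4z key
      have h9 := S.large.cent _ h8 key
      have h10 : y ^ (2 ^ 3) = ((y * y) * (y * y)) * ((y * y) * (y * y)) := by
        rw [show (2 ^ 3 : ℕ) = 8 from rfl]
        simp only [pow_succ, pow_zero, one_mul, mul_assoc]
      rw [h10]
      rcases h9 with h | h
      · rw [h, one_mul]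
      · rw [h]; exact hzz
  exact hY ⟨hy, hyz, hyQ⟩

/-- a 2-subgroup normal in `C_L(z)` lies in `Q` -/
theorem core_L [Finite G] (L : Subgroup G) (hL : L.Normal) (N : Subgroup G) (hNL : N ≤ L)
    (hNz : ∀ n ∈ N, n * z = z * n) (hn : ∀ c ∈ L, c * z = z * c → ∀ n ∈ N, c * n * c⁻¹ ∈ N)
    (h2 : IsPGroup 2 N) : N ≤ Q := by
  let CL : Subgroup G := L ⊓ Subgroup.centralizer ({z} : Set G)
  let M : Subgroup G := (Cfsg.pCore 2 CL).map CL.subtype
  have hMQ : M ≤ Q := by
    refine S.core M ?_ ?_ ?_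
    · rintro _ ⟨n, _, rfl⟩
      exact Subgroup.mem_centralizer_singleton_iff.1 (Subgroup.mem_inf.1 n.2).2
    · intro c hc n hn
      obtain ⟨m, hm, rfl⟩ := hn
      have hci : c⁻¹ * z = z * c⁻¹ := by rw [inv_mul_eq_iff_eq_mul, ← mul_assoc, hc, mul_inv_cancel_right]
      have hcon : ∀ d : G, d * z = z * d → ∀ x ∈ CL, d * x * d⁻¹ ∈ CL := by
        intro d hd x hx
        have hdi : d⁻¹ * z = z * d⁻¹ := by rw [inv_mul_eq_iff_eq_mul, ← mul_assoc, hd, mul_inv_cancel_right]
        refine Subgroup.mem_inf.2 ⟨hL.conj_mem x (Subgroup.mem_inf.1 hx).1 d, ?_⟩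
        rw [Subgroup.mem_centralizer_singleton_iff]
        have h3 := Subgroup.mem_centralizer_singleton_iff.1 (Subgroup.mem_inf.1 hx).2
        calc d * x * d⁻¹ * z = d * x * (d⁻¹ * z) := by group
          _ = d * (x * z) * d⁻¹ := by rw [hdi]; group
          _ = (d * z) * x * d⁻¹ := by rw [h3]; group
          _ = z * (d * x * d⁻¹) := by rw [hd]; group
      let e : CL ≃* CL :=
        { toFun := fun x => ⟨c * x * c⁻¹, hcon c hc x x.2⟩
          invFun := fun x => ⟨c⁻¹ * x * c, by
            have := hcon c⁻¹ hci x x.2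
            rwa [inv_inv] at this⟩
          left_inv := fun x => Subtype.ext (by show c⁻¹ * (c * (x : G) * c⁻¹) * c = x; group)
          right_inv := fun x => Subtype.ext (by show c * (c⁻¹ * (x : G) * c) * c⁻¹ = x; group)
          map_mul' := fun x y => Subtype.ext (by
            show c * ((x : G) * y) * c⁻¹ = (c * x * c⁻¹) * (c * y * c⁻¹)
            group) }
      have h3 := Cores.map_equiv_pCore e 2
      have h4 : e m ∈ Cfsg.pCore 2 CL := by
        rw [← h3]
        exact ⟨m, hm, rfl⟩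
      exact ⟨e m, h4, rfl⟩
    · exact (Cores.pCore_isPGroup (G := CL) 2).map _
  have hNC : N ≤ CL := fun n hn => Subgroup.mem_inf.2 ⟨hNL hn, Subgroup.mem_centralizer_singleton_iff.2 (hNz n hn)⟩
  have h3 : (N.subgroupOf CL).Normal := by
    refine ⟨fun n hn' c => ?_⟩
    exact hn c (Subgroup.mem_inf.1 c.2).1 (Subgroup.mem_centralizer_singleton_iff.1 (Subgroup.mem_inf.1 c.2).2) n hn'
  have h4 : IsPGroup 2 (N.subgroupOf CL) := h2.of_equiv (Subgroup.subgroupOfEquivOfLe hNC).symm
  have h5 := Cores.le_pCore h3 h4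
  intro n hn'
  exact hMQ ⟨⟨n, hNC hn'⟩, h5 hn', rfl⟩

/-- members of `minSet L` meet `Q` nontrivially -/
theorem exists_mem_inf [Finite G] {L K : Subgroup G} (hL : L.Normal) (hzL : z ∈ L) (hK : K ∈ minSet L)
    (hc : ∀ z ∈ K, (∀ t ∈ K, Commute z t) → z = 1) : ∃ x ∈ K, x ∈ Q ∧ x ≠ 1 := by
  obtain ⟨hKL, hK0, hKn, -⟩ := hK
  have hnorm : ∀ g ∈ L, ∀ k ∈ K, g * k * g⁻¹ ∈ K := fun g hg k hk =>
    (Subgroup.mem_normalizer_iff.1 (hKn hg) k).1 hk
  by_cases h : ∀ n ∈ K, n * z = z * n → n = 1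
  · exfalso
    apply hK0
    rw [eq_bot_iff]
    intro k hk
    rw [Subgroup.mem_bot]
    exact hc k hk fun t ht => (fpf K S.zz (hnorm z hzL) h).1 k hk t ht
  push Not at h
  obtain ⟨y, hy, hyz, hy1⟩ := h
  by_contra hcon
  push Not at hcon
  have hyQ : y ∈ Q := by
    refine S.self_L L hL (hKL hy) hyz fun g hg hgL => ?_
    have h1 : y * g * y⁻¹ * g⁻¹ = 1 := by
      apply hcon
      · have h2 := K.mul_mem hy (hnorm g hgL _ (K.inv_mem hy))
        have h3 : y * (g * y⁻¹ * g⁻¹) = y * g * y⁻¹ * g⁻¹ := by group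
        rwa [h3] at h2
      · exact Q.mul_mem (S.large.conj_mem y hyz g hg) (Q.inv_mem hg)
    rw [mul_inv_eq_one, mul_inv_eq_iff_eq_mul] at h1
    exact h1
  exact hy1 (hcon y hy hyQ)

/-- `Q` normalises the members of `minSet L` -/
theorem normalizes [Finite G] {L K : Subgroup G} (hL : L.Normal) (hzL : z ∈ L) (hind : sSupIndep (minSet L))
    (hK : K ∈ minSet L) (hs : IsSimpleGroup K)
    (hc : ∀ z ∈ K, (∀ t ∈ K, Commute z t) → z = 1) {q : G} (hq : q ∈ Q) :
    K.map (MulAut.conj q).toMonoidHom = K := by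
  by_contra hne
  set K₂ := K.map (MulAut.conj q).toMonoidHom with hK₂def
  have hK₂ : K₂ ∈ minSet L := map_conj_mem_minSet hK q
  have hdis : Disjoint K K₂ := (hind.pairwiseDisjoint) hK hK₂ (Ne.symm hne)
  have hd : ∀ x ∈ K, x ∈ K₂ → x = 1 := fun x h1 h2 => Subgroup.disjoint_def.1 hdis h1 h2
  have hcomm : ∀ x ∈ K, ∀ y ∈ K₂, Commute x y := fun x hx y hy =>
    Cfsg.Agent.Lib.MinNormal.commute_of_mem hind (fun S hS => hS.2.2.1) (fun S hS => hS.1) hK hK₂
      (Ne.symm hne) hx hy
  obtain ⟨x, hxK, hxQ, hx1⟩ := S.exists_mem_inf hL hzL hK hc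
  have hzz := S.zz
  have hnorm : ∀ g ∈ L, ∀ k ∈ K, g * k * g⁻¹ ∈ K := fun g hg k hk =>
    (Subgroup.mem_normalizer_iff.1 (hK.2.2.1 hg) k).1 hk
  -- conjugates of elements of `K ∩ Q`
  have key : ∀ x ∈ K, x ∈ Q → x ≠ 1 → q * x * q⁻¹ = x * z := by
    intro x hxK hxQ hx1
    rcases S.large.comm q hq x hxQ with h | h
    · exfalso
      apply hx1
      apply hd x hxK
      refine ⟨x, hxK, ?_⟩
      show q * x * q⁻¹ = x
      rw [h]; group
    · rw [h, mul_assoc x, S.large.comm_z q hq, mul_assoc, mul_assoc, mul_inv_cancel, mul_one]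
  have hx₂ : x * z ∈ K₂ := by rw [← key x hxK hxQ hx1]; exact ⟨x, hxK, rfl⟩
  have huniq : ∀ y ∈ K, y ∈ Q → y = 1 ∨ y = x := by
    intro y hyK hyQ
    by_cases hy1 : y = 1
    · exact Or.inl hy1
    right
    have hy₂ : y * z ∈ K₂ := by rw [← key y hyK hyQ hy1]; exact ⟨y, hyK, rfl⟩
    have h1 : y * x⁻¹ ∈ K₂ := by
      have h2 := K₂.mul_mem hy₂ (K₂.inv_mem hx₂)
      have h3 : y * z * (x * z)⁻¹ = y * x⁻¹ := by
        rw [mul_inv_rev]; group
      rwa [h3] at h2
    have h4 := hd _ (K.mul_mem hyK (K.inv_mem hxK)) h1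
    exact mul_inv_eq_one.1 h4
  have hxx : x * x = 1 := by
    rcases huniq (x * x) (K.mul_mem hxK hxK) (Q.mul_mem hxQ hxQ) with h | h
    · exact h
    · exact absurd (mul_eq_left.1 h) hx1
  -- `C_K(z) = C_K(x)`
  have hyx : ∀ y ∈ K, y * z = z * y → y * x = x * y := by
    intro y hyK hyz
    have h1 := (hcomm y hyK _ hx₂).eq
    -- y * (x z) = (x z) * y
    have h2 : y * x * z = x * y * z := by
      calc y * x * z = y * (x * z) := by group
        _ = x * (z * y) := by rw [h1]; group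
        _ = x * y * z := by rw [← hyz]; group
    exact mul_right_cancel h2
  have hyx' : ∀ y ∈ K, y * x = x * y → y * z = z * y := by
    intro y hyK hyx
    have h1 := (hcomm y hyK _ hx₂).eq
    have h2 : x * (y * z) = x * (z * y) := by
      calc x * (y * z) = (x * y) * z := by group
        _ = y * (x * z) := by rw [← hyx]; group
        _ = x * (z * y) := by rw [h1]; group
    exact mul_left_cancel h2
  -- `C_K(z)` has exponent 4
  have h4 : ∀ y ∈ K, y * z = z * y → (y * y) * (y * y) = 1 := by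
    intro y hyK hyz
    have h5 : y * y ∈ Q := by
      refine S.self_L L hL (L.mul_mem (hK.1 hyK) (hK.1 hyK)) ?_ fun g hg hgL => ?_
      · rw [mul_assoc, hyz, ← mul_assoc, hyz, mul_assoc]
      · have h6 : y * g * y⁻¹ * g⁻¹ = 1 ∨ y * g * y⁻¹ * g⁻¹ = x := by
          apply huniq
          · have h2 := K.mul_mem hyK (hnorm g hgL _ (K.inv_mem hyK))
            have h3 : y * (g * y⁻¹ * g⁻¹) = y * g * y⁻¹ * g⁻¹ := by group
            rwa [h3] at h2
          · exact Q.mul_mem (S.large.conj_mem y hyz g hg) (Q.inv_mem hg)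
        rcases h6 with h6 | h6
        · rw [mul_inv_eq_one, mul_inv_eq_iff_eq_mul] at h6
          rw [mul_assoc, h6, ← mul_assoc, h6, mul_assoc]
        · rw [mul_inv_eq_iff_eq_mul, mul_inv_eq_iff_eq_mul] at h6
          have h7 := hyx y hyK hyz
          calc y * y * g = y * (y * g) := by group
            _ = (y * x) * g * y := by rw [h6]; group
            _ = x * (y * g) * y := by rw [h7]; group
            _ = (x * x) * g * (y * y) := by rw [h6]; group
            _ = g * (y * y) := by rw [hxx, one_mul]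
    rcases huniq _ (K.mul_mem hyK hyK) h5 with h | h
    · rw [h, one_mul]
    · rw [h, hxx]
  -- `C_K(z) ≤ Q`
  have hCQ : K ⊓ Subgroup.centralizer ({z} : Set G) ≤ Q := by
    refine S.core_L L hL _ (inf_le_left.trans hK.1) ?_ ?_ ?_
    · intro n hn
      exact Subgroup.mem_centralizer_singleton_iff.1 (Subgroup.mem_inf.1 hn).2
    · intro c hcL hcz n hn
      obtain ⟨hn1, hn2⟩ := Subgroup.mem_inf.1 hn
      rw [Subgroup.mem_centralizer_singleton_iff] at hn2
      have hci : c⁻¹ * z = z * c⁻¹ := by rw [inv_mul_eq_iff_eq_mul, ← mul_assoc, hcz, mul_inv_cancel_right]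
      refine Subgroup.mem_inf.2 ⟨hnorm c hcL n hn1, ?_⟩
      rw [Subgroup.mem_centralizer_singleton_iff]
      calc c * n * c⁻¹ * z = c * n * (c⁻¹ * z) := by group
        _ = c * (n * z) * c⁻¹ := by rw [hci]; group
        _ = (c * z) * n * c⁻¹ := by rw [hn2]; group
        _ = z * (c * n * c⁻¹) := by rw [hcz]; group
    · rintro ⟨y, hy⟩
      obtain ⟨hy1, hy2⟩ := Subgroup.mem_inf.1 hy
      rw [Subgroup.mem_centralizer_singleton_iff] at hy2
      refine ⟨2, ?_⟩
      apply Subtype.ext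
      show y ^ (2 ^ 2) = 1
      rw [show (2 ^ 2 : ℕ) = 4 from rfl]
      have h5 := h4 y hy1 hy2
      simpa only [pow_succ, pow_zero, one_mul, mul_assoc] using h5
  -- Sylow 2-subgroups of `K` have order 2
  have hfix : ∀ y ∈ K, y * x = x * y → y = 1 ∨ y = x := by
    intro y hyK hyx1
    refine huniq y hyK (hCQ (Subgroup.mem_inf.2 ⟨hyK, ?_⟩))
    rw [Subgroup.mem_centralizer_singleton_iff]
    exact hyx' y hyK hyx1
  have : Fact (Nat.Prime 2) := ⟨Nat.prime_two⟩
  let x' : K := ⟨x, hxK⟩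
  have hx'1 : x' ≠ 1 := fun h => hx1 (congrArg Subtype.val h)
  have hx'2 : x' ^ 2 = 1 := Subtype.ext (by show x ^ 2 = 1; rw [pow_two]; exact hxx)
  have hx'o : orderOf x' = 2 := orderOf_eq_prime hx'2 hx'1
  have hpg : IsPGroup 2 (Subgroup.zpowers x') := IsPGroup.of_card (n := 1) (by
    rw [Nat.card_zpowers, hx'o, pow_one])
  obtain ⟨T, hT⟩ := hpg.exists_le_sylow
  have hx'T : x' ∈ (T : Subgroup K) := hT (Subgroup.mem_zpowers x')
  have hTnt : Nontrivial (T : Subgroup K) := ⟨⟨⟨x', hx'T⟩, 1, fun h => hx'1 (congrArg Subtype.val h)⟩⟩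
  have hcen : Nontrivial (Subgroup.center (T : Subgroup K)) := IsPGroup.center_nontrivial T.2
  obtain ⟨w, hw⟩ := exists_ne (1 : Subgroup.center (T : Subgroup K))
  have hwx : ((w : (T : Subgroup K)) : K) = x' := by
    have h5 : ((w : (T : Subgroup K)) : K) * x' = x' * w := by
      have h6 := Subgroup.mem_center_iff.1 w.2 ⟨x', hx'T⟩
      exact (congrArg Subtype.val h6).symm
    have h7 := hfix _ ((w : (T : Subgroup K)) : K).2 (congrArg Subtype.val h5)
    rcases h7 with h7 | h7
    · exfalso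
      apply hw
      apply Subtype.ext
      apply Subtype.ext
      apply Subtype.ext
      exact h7
    · exact Subtype.ext h7
  have hTle : ∀ t : (T : Subgroup K), (t : K) = 1 ∨ (t : K) = x' := by
    intro t
    have h6 := Subgroup.mem_center_iff.1 w.2 t
    have h7 : (t : K) * x' = x' * t := by
      rw [← hwx]
      exact congrArg Subtype.val h6
    rcases hfix _ (t : K).2 (congrArg Subtype.val h7) with h8 | h8
    · exact Or.inl (Subtype.ext h8)
    · exact Or.inr (Subtype.ext h8)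
  have hcyc : IsCyclic (T : Subgroup K) := by
    refine ⟨⟨x', hx'T⟩, fun t => ?_⟩
    rcases hTle t with h8 | h8
    · refine ⟨0, Subtype.ext ?_⟩
      rw [h8]
      show ((⟨x', hx'T⟩ : (T : Subgroup K)) ^ (0 : ℤ) : (T : Subgroup K)).1 = 1
      rw [zpow_zero]; rfl
    · refine ⟨1, Subtype.ext ?_⟩
      rw [h8]
      show ((⟨x', hx'T⟩ : (T : Subgroup K)) ^ (1 : ℤ) : (T : Subgroup K)).1 = x'
      rw [zpow_one]
  have hna : ¬ IsMulCommutative K := by
    intro h
    apply hx1
    refine hc x hxK fun t ht => ?_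
    exact congrArg Subtype.val (h.is_comm.comm (⟨x, hxK⟩ : K) ⟨t, ht⟩)
  have h2 : 2 ∣ Nat.card K := hx'o ▸ orderOf_dvd_natCard x'
  exact Cfsg.Agent.SmallSimple.EvenOrder.not_isCyclic_sylow_two hna h2 T hcyc

/-- **The reduction**: the normal closure of `z` is a non-abelian simple group with trivial centraliser. -/
theorem simple [Finite G] : IsSimpleGroup ↥(Subgroup.normalClosure ({z} : Set G)) ∧
    ¬ IsMulCommutative ↥(Subgroup.normalClosure ({z} : Set G)) ∧
    Subgroup.centralizer ((Subgroup.normalClosure ({z} : Set G) : Subgroup G) : Set G) = ⊥ := by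
  set L := Subgroup.normalClosure ({z} : Set G) with hLdef
  have hL : L.Normal := Subgroup.normalClosure_normal
  have hzL : z ∈ L := S.z_mem_L
  have hmin : ∀ M : Subgroup G, M.Normal → M ≤ L → M = ⊥ ∨ M = L := by
    intro M hM hML
    by_cases h : M = ⊥
    · exact Or.inl h
    · exact Or.inr (le_antisymm hML (S.le_of_normal M hM h))
  have hna : ¬ ∀ x ∈ L, ∀ y ∈ L, Commute x y := by
    intro hab
    obtain ⟨g, hg⟩ := S.ncen
    apply hg
    apply S.wc
    have hgz : g * z * g⁻¹ ∈ L := hL.conj_mem z hzL g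
    -- `L` is a 2-group
    have h2 : ∀ x ∈ L, x * x = 1 := by
      intro x hx
      let Ω : Subgroup G :=
        { carrier := {y | y ∈ L ∧ y * y = 1}
          one_mem' := ⟨L.one_mem, one_mul 1⟩
          mul_mem' := fun {a b} ha hb => ⟨L.mul_mem ha.1 hb.1, by
            have h3 := (hab a ha.1 b hb.1).eq
            calc a * b * (a * b) = a * (b * a) * b := by group
              _ = (a * a) * (b * b) := by rw [← h3]; group
              _ = 1 := by rw [ha.2, hb.2, one_mul]⟩
          inv_mem' := fun {a} ha => ⟨L.inv_mem ha.1, by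
            rw [← mul_inv_rev, ha.2, inv_one]⟩ }
      have hΩ : Ω.Normal := ⟨fun y hy g => ⟨hL.conj_mem y hy.1 g, by
        calc g * y * g⁻¹ * (g * y * g⁻¹) = g * (y * y) * g⁻¹ := by group
          _ = 1 := by rw [hy.2]; group⟩⟩
      have hLΩ : L ≤ Ω := by
        apply Subgroup.normalClosure_le_normal
        rintro y rfl
        exact ⟨hzL, S.zz⟩
      exact (hLΩ hx).2
    refine S.core L (fun n hn => (hab n hn z hzL).eq) (fun c _ n hn => hL.conj_mem n hn c) ?_ hgz
    rintro ⟨x, hx⟩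
    refine ⟨1, ?_⟩
    apply Subtype.ext
    show x ^ (2 ^ 1) = 1
    rw [pow_one, pow_two]
    exact h2 x hx
  obtain ⟨hne, hind, hsup, hsimp, hcent, -⟩ := nonabelian_structure L hmin hna
  -- `L` has only one minimal normal subgroup
  obtain ⟨K, hK⟩ := hne
  have hall : ∀ K ∈ minSet L, z ∈ K := by
    intro K hK
    obtain ⟨x, hxK, hxQ, hx1⟩ := S.exists_mem_inf hL hzL hK (hcent K hK)
    refine S.mem_of_inf (fun q hq m hm => ?_) hxK hxQ hx1
    have h1 := S.normalizes hL hzL hind hK (hsimp K hK) (hcent K hK) hq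
    rw [← h1]
    exact ⟨m, hm, rfl⟩
  have huniq : ∀ K' ∈ minSet L, K' = K := by
    intro K' hK'
    by_contra hne
    have hdis : Disjoint K' K := hind.pairwiseDisjoint hK' hK hne
    exact S.large.z_ne (Subgroup.disjoint_def.1 hdis (hall K' hK') (hall K hK))
  have hKL : K = L := by
    rw [← hsup]
    apply le_antisymm (le_sSup hK)
    exact sSup_le fun K' hK' => (huniq K' hK').le
  have hs : IsSimpleGroup L := hKL ▸ hsimp K hK
  refine ⟨hs, fun h => hna fun x hx y hy => ?_, ?_⟩
  · exact congrArg Subtype.val (h.is_comm.comm (⟨x, hx⟩ : L) ⟨y, hy⟩)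
  · by_contra hC
    have hCn : (Subgroup.centralizer (L : Set G)).Normal := by
      refine ⟨fun n hn g => ?_⟩
      rw [Subgroup.mem_centralizer_iff] at hn ⊢
      intro y hy
      have h1 := hn (g⁻¹ * y * g) (by
        have := hL.conj_mem y hy g⁻¹
        rwa [inv_inv] at this)
      calc y * (g * n * g⁻¹) = g * ((g⁻¹ * y * g) * n) * g⁻¹ := by group
        _ = g * (n * (g⁻¹ * y * g)) * g⁻¹ := by rw [h1]
        _ = g * n * g⁻¹ * y := by group
    have h1 := S.le_of_normal _ hCn hC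
    apply hna
    intro x hx y hy
    exact (Subgroup.mem_centralizer_iff.1 (h1 hx) y hy).symm

end Setup

end Cfsg.Agent.WCLarge.Reduce
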