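import Cfsg.Agent.LargeExtra.WCIrr

/-!
# Large extraspecial 2-subgroups, `z` weakly closed in `Q`: no hypothesis on subgroups of index two (S1760)

`G` a finite group, `Base P Q`.  A conjugate of `z` never induces a reflection on `Q / ⟨z⟩`
(`no_refl_conj`), so good pairs exist as soon as commuting pairs exist (`exists_good_free`) and the irreducibility
theorem `main` holds without the hypothesis that `G` has no subgroup of index two (`main_free`, `irreducible_free`).
-/

set_option autoImplicit false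

namespace Cfsg.Agent.WCLarge

open Cfsg.Agent.Co2Type.Quad Cfsg.Agent.LargeExtra.WC Cfsg.Agent.LargeExtra.Base Cfsg.Agent.LargeExtra.WCIrr
open Cfsg.Agent.LargeExtra

/-- an involution of `C_G(z)` conjugate to `z` does not induce a reflection on `Q / ⟨z⟩` -/
theorem no_refl_large {G : Type*} [Group G] [Finite G] {Q : Subgroup G} {z : G} (h : Large Q z)
    (h8 : 8 < Nat.card Q) {u : Q} (hu : (u : G) * u = z) {s : Subgroup.centralizer ({z} : Set G)}
    (hs : (s : G) * s = 1) (g : G) (hg : g * z * g⁻¹ = s)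
    (hc : ∀ v, h.act s v = v + h.b (h.pr u) v • h.pr u) : False := by
  have h1 := hc (h.pr u)
  rw [h.b_self, zero_smul, add_zero, h.act_pr, h.pr_eq_pr, h.conjQ_coe] at h1
  have hsz : (s : G) * z = z * s := Subgroup.mem_centralizer_singleton_iff.1 s.2
  rcases h1 with h2 | h2
  · -- `s` commutes with `u`
    have hsu : (s : G) * u * (s : G)⁻¹ = u := h2
    have hu1 : (u : G) ≠ 1 := by
      intro h3; rw [h3, one_mul] at hu; exact h.z_ne hu.symm
    have huz : (u : G) ≠ z := by
      intro h3; rw [h3, h.z_sq] at hu; exact h.z_ne hu.symm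
    obtain ⟨w, hw, hwu⟩ := exists_not_comm h u.2 hu1 huz
    have hb : h.b (h.pr u) (h.pr ⟨w, hw⟩) = 1 := by
      rcases zm_cases (h.b (h.pr u) (h.pr ⟨w, hw⟩)) with h5 | h5
      · exfalso
        have h6 := (h.b_pr _ _).1 h5
        have h7 : (u : G) * w = w * u := h6
        rw [hwu] at h7
        have h8' : (u : G) * w * z = u * w := h7.symm
        exact h.z_ne (mul_eq_left.1 h8')
      · exact h5
    have h3 := hc (h.pr ⟨w, hw⟩)
    rw [hb, one_smul, ← h.pr_mul, h.act_pr, h.pr_eq_pr, h.conjQ_coe] at h3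
    have key : ∀ e : G, (e = 1 ∨ e = z) → (s : G) * w * (s : G)⁻¹ = w * u * e → False := by
      intro e he h4
      have hee : e * e = 1 := by
        rcases he with rfl | rfl
        · exact one_mul 1
        · exact h.z_sq
      have hse : (s : G) * e * (s : G)⁻¹ = e := by
        rcases he with rfl | rfl
        · group
        · rw [hsz]; group
      have hue : (u : G) * e = e * u := by
        rcases he with rfl | rfl
        · group
        · exact h.comm_z u u.2
      have h5 : (s : G) * ((s : G) * w * (s : G)⁻¹) * (s : G)⁻¹ = w := by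
        calc (s : G) * ((s : G) * w * (s : G)⁻¹) * (s : G)⁻¹ = ((s : G) * s) * w * ((s : G) * s)⁻¹ := by group
          _ = w := by rw [hs]; group
      have h6 : (s : G) * (w * u * e) * (s : G)⁻¹ = w * z := by
        calc (s : G) * (w * u * e) * (s : G)⁻¹ = (s * w * (s : G)⁻¹) * (s * u * (s : G)⁻¹) * (s * e * (s : G)⁻¹) := by
              group
          _ = w * u * e * u * e := by rw [h4, hsu, hse]
          _ = w * u * (e * u) * e := by group
          _ = w * (u * u) * (e * e) := by rw [← hue]; group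
          _ = w * z := by rw [hu, hee, mul_one]
      rw [h4, h6] at h5
      exact h.z_ne (mul_eq_left.1 h5)
    rcases h3 with h4 | h4
    · exact key 1 (Or.inl rfl) (by rw [mul_one]; exact h4)
    · exact key z (Or.inr rfl) h4
  · -- `s` inverts `u`
    have hsu : (s : G) * u * (s : G)⁻¹ = u * z := h2
    have r : LemmaR.Refl h u s := ⟨hc, by
      rw [mul_inv_eq_iff_eq_mul] at hsu
      exact hsu, hu⟩
    exact LemmaR.not_conj r hs h8 g hg

section

variable {G : Type*} [Group G] {P : Set G} {Q : G → Subgroup G} {p t : G}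

/-- Good pairs exist: no hypothesis on subgroups of index two. -/
theorem exists_good_free [Finite G] (B : Base P Q) (h8 : ∀ p ∈ P, 8 < Nat.card (Q p)) (c : Com P p t) :
    ∃ s, Good P p s := by
  set h := B.large t c.ht with hh
  have c' := c.symm
  -- a vector `v` of `V_t` with `[p, v] ≠ 0` singular
  obtain ⟨v, hv0, hvq⟩ : ∃ v, Com.T B c.symm v + v ≠ 0 ∧ h.q (Com.T B c.symm v + v) = 0 := by
    by_contra hcon
    push Not at hcon
    obtain ⟨v1, hv1⟩ := Com.T_ne B c.symm
    set w := Com.T B c.symm v1 + v1 with hw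
    have hw0 : w ≠ 0 := fun h => hv1 (eq_of_add h)
    have hqw : h.q w = 1 := by
      rcases zm_cases (h.q w) with h1 | h1
      · exact absurd h1 (hcon v1 hw0)
      · exact h1
    have hT := Com.T_inv B c.symm
    -- `W = {0, w}`
    have hW : ∀ v, Com.T B c.symm v + v = 0 ∨ Com.T B c.symm v + v = w := by
      intro v
      by_contra hne
      push Not at hne
      have h1 : h.q (Com.T B c.symm v + v) = 1 := by
        rcases zm_cases (h.q (Com.T B c.symm v + v)) with h1 | h1
        · exact absurd h1 (hcon v hne.1)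
        · exact h1
      have h2 : Com.T B c.symm (v + v1) + (v + v1) = (Com.T B c.symm v + v) + w := by
        rw [map_add, hw]; abel
      have h3 : h.b (Com.T B c.symm v + v) w = 0 := hT.isotropic (QS.f_mem_W _ _) (QS.f_mem_W _ _)
      apply hcon (v + v1)
      · rw [h2]
        exact fun h4 => hne.2 (eq_of_add h4)
      · rw [h2, h.q_add', h1, hqw, h3]; decide
    have hfix : ∀ v, h.b w v = 0 → Com.T B c.symm v = v := by
      intro v hv
      rw [hT.fix_iff, QS.mem_perp]
      rintro _ ⟨u, rfl⟩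
      show h.b (Com.T B c.symm u + u) v = 0
      rcases hW u with h1 | h1
      · rw [h1, map_zero]; rfl
      · rw [h1]; exact hv
    rcases TwoCentral.eq_or_refl_of_fix_perp h (Com.T B c.symm) (fun v w => hT.iso.b_eq v w) hfix with h1 | h1
    · apply hv1
      rw [h1]; rfl
    · obtain ⟨u, hu⟩ := h.pr_surjective w
      rw [← hu] at h1 hqw
      obtain ⟨g, hg⟩ := B.exists_conj t c.ht p c.hp
      exact no_refl_large h (h8 t c.ht) (h.q_eq_one.1 hqw)
        (s := ⟨p, Subgroup.mem_centralizer_singleton_iff.2 c.com⟩) (B.sq c.hp) g hg h1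
  obtain ⟨y, hy, rfl⟩ := pr_surj _ v
  rw [WCIrr.Com.T, ac_add] at hv0 hvq
  have ha2 := h.q_eq_zero.1 hvq
  have ha2' : (p * y * p⁻¹ * y⁻¹) * (p * y * p⁻¹ * y⁻¹) = 1 := ha2
  have ha : p * y * p⁻¹ * y⁻¹ ∈ Q t := Com.u_mem B c.symm hy
  set a := p * y * p⁻¹ * y⁻¹ with haa
  have hs := Com.conj_eq B c.symm y
  rw [← haa] at hs
  have hsP : y * p * y⁻¹ ∈ P := B.conj_mem p c.hp y
  refine ⟨y * p * y⁻¹, ⟨c.hp, hsP, ?_, ?_⟩, ?_⟩
  · intro h1
    rw [hs] at h1
    apply hv0
    exact h.pr_eq_zero.2 (Or.inl (mul_eq_left.1 h1.symm))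
  · have h1 : p * (y * p * y⁻¹) = a := by rw [hs, ← mul_assoc, B.sq c.hp, one_mul]
    have h2 : (p * (y * p * y⁻¹))⁻¹ = p * (y * p * y⁻¹) := by
      rw [h1]; exact inv_eq_of_mul_eq_one_left ha2'
    rw [mul_inv_rev, B.inv c.hp, B.inv hsP] at h2
    exact h2.symm
  · have h1 : p * (y * p * y⁻¹) = a := by rw [hs, ← mul_assoc, B.sq c.hp, one_mul]
    rw [h1]
    intro h2
    have h3 := B.eq_of_mem t c.ht _ h2 ha
    apply hv0
    exact h.pr_eq_zero.2 (Or.inr h3)

/-- **Case I**, no hypothesis on subgroups of index two. -/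
theorem main_free [Finite G] (B : Base P Q)
    (h128 : ∀ p ∈ P, 128 ≤ Nat.card (Q p))
    (hO : ∀ p ∈ P, ∀ N : Subgroup (Subgroup.centralizer ({p} : Set G)), N.Normal → IsPGroup 2 N →
      ∀ x ∈ N, (x : G) ∈ Q p)
    (hex : ∃ p t, Com P p t) {q : G} (hq : q ∈ P)
    {A : Subgroup G} (hA : Inva Q q A) : (∀ m ∈ A, m = 1 ∨ m = q) ∨ A = Q q := by
  have h64 : ∀ p (hp : p ∈ P), 64 ≤ Nat.card (B.large p hp).V := by
    intro p hp
    have h1 := (B.large p hp).card_eq
    have h2 := h128 p hp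
    omega
  obtain ⟨p, t, c⟩ := hex
  obtain ⟨s, c'⟩ := exists_good_free B (fun p hp => by have := h128 p hp; omega) c
  obtain ⟨p, t, c, u⟩ := exists_typeU B h64 ⟨p, s, c'⟩
  -- transport `A`
  obtain ⟨g, hg⟩ := B.exists_conj q hq p c.hp
  have hA2 : Inva Q p (A.map (MulAut.conj g).toMonoidHom) := by
    refine ⟨⟨q, hA.p_mem, hg⟩, ?_, ?_⟩
    · rintro _ ⟨x, hx, rfl⟩
      rw [← hg]
      exact B.Q_conj q hq g x (hA.le hx)
    · rintro k hk _ ⟨x, hx, rfl⟩
      have hk' : (g⁻¹ * k * g) * q = q * (g⁻¹ * k * g) := by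
        calc (g⁻¹ * k * g) * q = g⁻¹ * (k * (g * q * g⁻¹)) * g := by group
          _ = g⁻¹ * ((g * q * g⁻¹) * k) * g := by rw [hg, hk]
          _ = q * (g⁻¹ * k * g) := by group
      refine ⟨_, hA.inv _ hk' x hx, ?_⟩
      show g * (g⁻¹ * k * g * x * (g⁻¹ * k * g)⁻¹) * g⁻¹ = k * (g * x * g⁻¹) * k⁻¹
      group
  rcases c.irreducible B u (hO p c.hp) hA2 with h1 | h1
  · left
    intro m hm
    rcases h1 (g * m * g⁻¹) ⟨m, hm, rfl⟩ with h2 | h2
    · left
      have : m = g⁻¹ * (g * m * g⁻¹) * g := by group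
      rw [this, h2]; group
    · right
      have : m = g⁻¹ * (g * m * g⁻¹) * g := by group
      rw [this, h2, ← hg]; group
  · right
    apply le_antisymm hA.le
    intro x hx
    have h2 : g * x * g⁻¹ ∈ A.map (MulAut.conj g).toMonoidHom := by
      rw [h1, ← hg]
      exact B.Q_conj q hq g x hx
    obtain ⟨y, hy, hxy⟩ := h2
    have hxy' : g * y * g⁻¹ = g * x * g⁻¹ := hxy
    have : y = x := mul_left_cancel (mul_right_cancel hxy')
    rw [← this]; exact hy

end

/-- **Case I** for a finite group `G` in which `z` has a conjugate `≠ z` commuting with `z`. -/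
theorem irreducible_free {G : Type*} [Group G] {Q : Subgroup G} {z : G} [Finite G] (h : Large Q z)
    (h128 : 128 ≤ Nat.card Q)
    (hO : ∀ N : Subgroup (Subgroup.centralizer ({z} : Set G)), N.Normal → IsPGroup 2 N →
      ∀ x ∈ N, (x : G) ∈ Q)
    (hwc : ∀ g : G, g * z * g⁻¹ ∈ Q → g * z * g⁻¹ = z)
    (hex : ∃ g : G, g * z * g⁻¹ ≠ z ∧ g * z * g⁻¹ * z = z * (g * z * g⁻¹))
    {A : Subgroup G} (hzA : z ∈ A) (hAQ : A ≤ Q) (hA : ∀ c, c * z = z * c → ∀ x ∈ A, c * x * c⁻¹ ∈ A) :
    (∀ m ∈ A, m = 1 ∨ m = z) ∨ A = Q := by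
  have B := WCIrr.base h hwc
  obtain ⟨g, hg1, hg2⟩ := hex
  have hz : z ∈ cls z := ⟨1, by group⟩
  have c : Com (cls z) z (g * z * g⁻¹) := ⟨hz, ⟨g, rfl⟩, Ne.symm hg1, hg2.symm⟩
  have hQ : ∀ p ∈ cls z, 128 ≤ Nat.card (QQ Q z p) := by
    intro p hp
    rw [B.card_eq hp hz, QQ_self h]
    exact h128
  have hA' : Inva (QQ Q z) z A := by
    refine ⟨hzA, ?_, hA⟩
    rw [QQ_self h]; exact hAQ
  have h1 := main_free B hQ (fun p hp N hN hN2 => normal_two h hO p hp N hN hN2)
    ⟨z, _, c⟩ hz hA'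
  rwa [QQ_self h] at h1

end Cfsg.Agent.WCLarge
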