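import Cfsg.Agent.WCLarge.GoodTwo
import Cfsg.Agent.LargeExtra.W2.Simple
import Cfsg.Agent.LargeExtra.W2.NSBase
import Cfsg.Agent.SmallExtra438.NineAGeo
import Cfsg.Agent.LargeExtra.W2.LFour.Main
import Cfsg.Agent.AltType.Recognize
import Cfsg.Agent.AltType.CaseI

/-!
# S1760, `|Q| = 32`, `G` simple: `PSU₄(2)` or `PSL₄(3)`
-/

set_option autoImplicit false

namespace Cfsg.Agent.WCLarge

open Cfsg.Agent.Co2Type.Quad Cfsg.Agent.LargeExtra.WC Cfsg.Agent.LargeExtra.Base Cfsg.Agent.LargeExtra.WCIrr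
open Cfsg.Agent.LargeExtra Cfsg.Agent.LargeExtra.W2

section

variable {G : Type*} [Group G] {Q : Subgroup G} {z i j k l : G}

theorem norm_closure [Finite G] {S T : Set G} (h : ∀ s ∈ S, ∀ x ∈ T, s * x * s⁻¹ ∈ Subgroup.closure T) {t : G}
    (ht : t ∈ Subgroup.closure S) {x : G} (hx : x ∈ Subgroup.closure T) : t * x * t⁻¹ ∈ Subgroup.closure T := by
  have h1 : Subgroup.closure S ≤ Subgroup.normalizer ((Subgroup.closure T : Subgroup G) : Set G) := by
    rw [Subgroup.closure_le]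
    intro s hs
    apply Subgroup.mem_normalizer_fintype
    intro n hn
    have h2 : Subgroup.closure T ≤ (Subgroup.closure T).comap (MulAut.conj s).toMonoidHom := by
      rw [Subgroup.closure_le]
      intro x hx
      exact h s hs x hx
    exact h2 hn
  exact (h1 ht x).1 hx

/-- a good pair at `z` from the weak closure -/
theorem exists_good [Finite G] (h : Large Q z) (h8 : 8 < Nat.card Q)
    (hwc : ∀ g : G, g * z * g⁻¹ ∈ Q → g * z * g⁻¹ = z)
    (hex : ∃ g : G, g * z * g⁻¹ ≠ z ∧ z * (g * z * g⁻¹) = g * z * g⁻¹ * z) :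
    ∃ s, Good (cls z) z s := by
  have B := WCIrr.base h hwc
  obtain ⟨g, hg1, hg2⟩ := hex
  have hz : z ∈ cls z := ⟨1, by group⟩
  have c : Com (cls z) z (g * z * g⁻¹) := ⟨hz, ⟨g, rfl⟩, Ne.symm hg1, hg2⟩
  refine exists_good_free B ?_ c
  intro p hp
  rw [B.card_eq hp hz, QQ_self h]
  exact h8

/-- all elements of `C_G(z)` normalise `⟨i, j⟩` and `⟨k, l⟩`: no good pair -/
theorem plus_false [Finite G] (P : Plus Q z i j k l)
    (hwc : ∀ g : G, g * z * g⁻¹ ∈ Q → g * z * g⁻¹ = z)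
    (hex : ∃ g : G, g * z * g⁻¹ ≠ z ∧ z * (g * z * g⁻¹) = g * z * g⁻¹ * z) {S : Set G}
    (hS : Subgroup.centralizer ({z} : Set G) = Subgroup.closure S)
    (h1 : ∀ s ∈ S, s * i * s⁻¹ ∈ Subgroup.closure ({i, j} : Set G) ∧ s * j * s⁻¹ ∈ Subgroup.closure ({i, j} : Set G))
    (h2 : ∀ s ∈ S, s * k * s⁻¹ ∈ Subgroup.closure ({k, l} : Set G) ∧ s * l * s⁻¹ ∈ Subgroup.closure ({k, l} : Set G)) :
    False := by
  have h := P.large
  obtain ⟨s, c⟩ := exists_good h (by rw [P.card]; norm_num) hwc hex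
  have B := WCIrr.base h hwc
  have P' : Plus (QQ Q z z) z i j k l := by rw [QQ_self h]; exact P
  have hs : s ∈ Subgroup.closure S := by
    rw [← hS]
    exact Subgroup.mem_centralizer_singleton_iff.2 c.com.symm
  refine no_good_plus B c P' (fun x hx => norm_closure ?_ hs hx) (fun x hx => norm_closure ?_ hs hx)
  · rintro s hs x (rfl | rfl)
    · exact (h1 s hs).1
    · exact (h1 s hs).2
  · rintro s hs x (rfl | rfl)
    · exact (h2 s hs).1
    · exact (h2 s hs).2

theorem caseF2_false [Finite G] {v y : G} (h : CaseF2 Q z i j k l v y)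
    (hwc : ∀ g : G, g * z * g⁻¹ ∈ Q → g * z * g⁻¹ = z)
    (hex : ∃ g : G, g * z * g⁻¹ ≠ z ∧ z * (g * z * g⁻¹) = g * z * g⁻¹ * z) : False := by
  have mi : i ∈ Subgroup.closure ({i, j} : Set G) := Subgroup.subset_closure (by simp)
  have mj : j ∈ Subgroup.closure ({i, j} : Set G) := Subgroup.subset_closure (by simp)
  have mk : k ∈ Subgroup.closure ({k, l} : Set G) := Subgroup.subset_closure (by simp)
  have ml : l ∈ Subgroup.closure ({k, l} : Set G) := Subgroup.subset_closure (by simp)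
  have mz : z ∈ Subgroup.closure ({i, j} : Set G) := by
    have := mul_mem mi mi
    rwa [h.ii] at this
  have mz' : z ∈ Subgroup.closure ({k, l} : Set G) := by
    have := mul_mem mk mk
    rwa [h.kk] at this
  refine plus_false h.toPlus hwc hex h.cent ?_ ?_
  · rintro s (rfl | rfl | rfl | rfl | rfl | rfl)
    · exact ⟨mul_mem (mul_mem mi mi) (inv_mem mi), mul_mem (mul_mem mi mj) (inv_mem mi)⟩
    · exact ⟨mul_mem (mul_mem mj mi) (inv_mem mj), mul_mem (mul_mem mj mj) (inv_mem mj)⟩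
    · rw [h.ki, h.kj, mul_inv_cancel_right, mul_inv_cancel_right]; exact ⟨mi, mj⟩
    · rw [h.li, h.lj, mul_inv_cancel_right, mul_inv_cancel_right]; exact ⟨mi, mj⟩
    · rw [h.v_act.i, h.v_act.j]; exact ⟨mj, mul_mem mi mj⟩
    · rw [h.y_act.i, h.y_act.j]; exact ⟨mul_mem mj mz, mul_mem mi mz⟩
  · rintro s (rfl | rfl | rfl | rfl | rfl | rfl)
    · rw [← h.ki, ← h.li, mul_inv_cancel_right, mul_inv_cancel_right]; exact ⟨mk, ml⟩
    · rw [← h.kj, ← h.lj, mul_inv_cancel_right, mul_inv_cancel_right]; exact ⟨mk, ml⟩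
    · exact ⟨mul_mem (mul_mem mk mk) (inv_mem mk), mul_mem (mul_mem mk ml) (inv_mem mk)⟩
    · exact ⟨mul_mem (mul_mem ml mk) (inv_mem ml), mul_mem (mul_mem ml ml) (inv_mem ml)⟩
    · rw [h.v_act.k, h.v_act.l]; exact ⟨ml, mul_mem mk ml⟩
    · rw [h.y_act.k, h.y_act.l]; exact ⟨mul_mem ml mz', mul_mem mk mz'⟩

theorem case9c_false [Finite G] {x₁ x₂ y : G} (h : Case9c Q z i j k l x₁ x₂ y)
    (hwc : ∀ g : G, g * z * g⁻¹ ∈ Q → g * z * g⁻¹ = z)
    (hex : ∃ g : G, g * z * g⁻¹ ≠ z ∧ z * (g * z * g⁻¹) = g * z * g⁻¹ * z) : False := by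
  have mi : i ∈ Subgroup.closure ({i, j} : Set G) := Subgroup.subset_closure (by simp)
  have mj : j ∈ Subgroup.closure ({i, j} : Set G) := Subgroup.subset_closure (by simp)
  have mk : k ∈ Subgroup.closure ({k, l} : Set G) := Subgroup.subset_closure (by simp)
  have ml : l ∈ Subgroup.closure ({k, l} : Set G) := Subgroup.subset_closure (by simp)
  have mz : z ∈ Subgroup.closure ({i, j} : Set G) := by
    have := mul_mem mi mi
    rwa [h.ii] at this
  have mz' : z ∈ Subgroup.closure ({k, l} : Set G) := by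
    have := mul_mem mk mk
    rwa [h.kk] at this
  refine plus_false h.toPlus hwc hex h.cent ?_ ?_
  · rintro s (rfl | rfl | rfl | rfl | rfl | rfl | rfl)
    · exact ⟨mul_mem (mul_mem mi mi) (inv_mem mi), mul_mem (mul_mem mi mj) (inv_mem mi)⟩
    · exact ⟨mul_mem (mul_mem mj mi) (inv_mem mj), mul_mem (mul_mem mj mj) (inv_mem mj)⟩
    · rw [h.ki, h.kj, mul_inv_cancel_right, mul_inv_cancel_right]; exact ⟨mi, mj⟩
    · rw [h.li, h.lj, mul_inv_cancel_right, mul_inv_cancel_right]; exact ⟨mi, mj⟩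
    · rw [h.x₁_act.i, h.x₁_act.j]; exact ⟨mj, mul_mem mi mj⟩
    · rw [h.x₂_act.i, h.x₂_act.j]; exact ⟨mi, mj⟩
    · rw [h.y_act.i, h.y_act.j]; exact ⟨mul_mem mj mz, mul_mem mi mz⟩
  · rintro s (rfl | rfl | rfl | rfl | rfl | rfl | rfl)
    · rw [← h.ki, ← h.li, mul_inv_cancel_right, mul_inv_cancel_right]; exact ⟨mk, ml⟩
    · rw [← h.kj, ← h.lj, mul_inv_cancel_right, mul_inv_cancel_right]; exact ⟨mk, ml⟩
    · exact ⟨mul_mem (mul_mem mk mk) (inv_mem mk), mul_mem (mul_mem mk ml) (inv_mem mk)⟩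
    · exact ⟨mul_mem (mul_mem ml mk) (inv_mem ml), mul_mem (mul_mem ml ml) (inv_mem ml)⟩
    · rw [h.x₁_act.k, h.x₁_act.l]; exact ⟨mk, ml⟩
    · rw [h.x₂_act.k, h.x₂_act.l]; exact ⟨ml, mul_mem mk ml⟩
    · rw [h.y_act.k, h.y_act.l]; exact ⟨mul_mem ml mz', mul_mem mk mz'⟩

/-- type `-`: no good pair -/
theorem minus_false [Finite G] (M : Minus Q z i j k l)
    (hwc : ∀ g : G, g * z * g⁻¹ ∈ Q → g * z * g⁻¹ = z)
    (hex : ∃ g : G, g * z * g⁻¹ ≠ z ∧ z * (g * z * g⁻¹) = g * z * g⁻¹ * z) : False := by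
  have h := M.large
  obtain ⟨s, c⟩ := exists_good h (by rw [M.card]; norm_num) hwc hex
  have B := WCIrr.base h hwc
  have M' : Minus (QQ Q z z) z i j k l := by rw [QQ_self h]; exact M
  obtain ⟨a, ha, b, hb, ha0, hb0, hab⟩ := exists_pair_W B c
  rcases minus_no_pair (B.large z c.hp) M' (c.q_W B ha) (c.q_W B hb)
    ((WCIrr.Com.T_inv B c.toCom).isotropic ha hb) with h1 | h1 | h1
  · exact ha0 h1
  · exact hb0 h1
  · exact hab h1

end

/-- the case `F1` is not weakly closed -/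
theorem caseF1_false {G : Type*} [Group G] [Finite G] [IsSimpleGroup G] (hnc : ¬ IsMulCommutative G)
    {Q : Subgroup G} {z i j k l w s : G} (h : CaseF1 Q z i j k l w s)
    (hwc : ∀ g : G, g * z * g⁻¹ ∈ Q → g * z * g⁻¹ = z) : False := by
  have h1 := AltType.f1_of_caseF1 h (AltTypeConv.y_sq h)
  have mi := PlusHom.mem_i h.toPlus
  have mj := PlusHom.mem_j h.toPlus
  have mk := PlusHom.mem_k h.toPlus
  have ml := PlusHom.mem_l h.toPlus
  have mz : z ∈ Q := h.large.z_mem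
  have ma : z * (i * k) ∈ Q := mul_mem mz (mul_mem mi mk)
  have mb : z * (i * (j * (k * l))) ∈ Q := mul_mem mz (mul_mem mi (mul_mem mj (mul_mem mk ml)))
  have key : ∀ x ∈ Q, AltType.Fus z x → x = z := by
    rintro x hx ⟨g, hg⟩
    have h2 : g⁻¹ * z * g⁻¹⁻¹ = x := by rw [inv_inv, mul_assoc, hg, inv_mul_cancel_left]
    rw [← h2]
    exact hwc g⁻¹ (by rw [h2]; exact hx)
  have hz1 := h.large.z_ne
  revert h1 ma mb
  generalize z * (i * k) = a
  generalize z * (i * (j * (k * l))) = b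
  generalize z * (j * (k * l)) = c
  generalize z * (i * l) = d
  intro h1 ma mb
  have haz : a ≠ z := by
    rintro rfl
    have h2 := h1.ad
    have h3 : a * (d * a) = a * (a * d) := by rw [h1.dz]
    rw [h3, ← mul_assoc, h1.zz, one_mul] at h2
    exact hz1 (mul_eq_right.1 h2)
  have hbz : b ≠ z := by
    rintro rfl
    have h2 := h1.cb
    rw [h1.cz, ← mul_assoc, h1.zz, one_mul] at h2
    exact hz1 (mul_eq_right.1 h2)
  have habz : z * (a * b) ≠ z := by
    intro h2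
    have h3 : a * b = 1 := mul_eq_left.1 h2
    have h4 : a = b := by
      rw [← inv_eq_of_mul_eq_one_left h1.bb]
      exact eq_inv_of_mul_eq_one_left h3
    have h5 := h1.cb
    rw [← h4, ← h1.ac] at h5
    exact hz1 (mul_eq_right.1 h5.symm)
  rcases h1.caseI hnc with h2 | h2 | h2
  · exact haz (key _ ma h2)
  · exact hbz (key _ mb h2)
  · exact habz (key _ (mul_mem mz (mul_mem ma mb)) h2)

/-- **`|Q| = 32`, `G` simple.** -/
theorem two_simple {G : Type*} [Group G] [Finite G] [IsSimpleGroup G] (hnc : ¬ IsMulCommutative G) (z : G)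
    (hz : orderOf z = 2)
    (hE : Cfsg.IsExtraspecial 2 ↥(Cfsg.generalizedFittingSubgroup ↥(Subgroup.centralizer ({z} : Set G))))
    (h32 : Nat.card ↥(Cfsg.generalizedFittingSubgroup ↥(Subgroup.centralizer ({z} : Set G))) = 32)
    (hwc : ∀ g : G, g * z * g⁻¹ ∈ (Cfsg.generalizedFittingSubgroup ↥(Subgroup.centralizer ({z} : Set G))).map
      (Subgroup.centralizer ({z} : Set G)).subtype → g * z * g⁻¹ = z) :
    (∃ (F : Type) (_ : Field F) (_ : Fintype F), Fintype.card F = 4 ∧ Nonempty (G ≃* Cfsg.PSU 4 F 2)) ∨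
      (∃ (F : Type) (_ : Field F) (_ : Fintype F), Fintype.card F = 3 ∧
        Nonempty (G ≃* Matrix.ProjectiveSpecialLinearGroup (Fin 4) F)) := by
  have hG : ∀ H : Subgroup G, H.index ≠ 2 := Simple.no_index_two hnc
  have h := Base.large_of_genFitting z hz hE
  have hcard : Nat.card ((Cfsg.generalizedFittingSubgroup ↥(Subgroup.centralizer ({z} : Set G))).map
      (Subgroup.centralizer ({z} : Set G)).subtype) = 32 := by
    rw [Subgroup.card_map_of_injective (Subgroup.centralizer ({z} : Set G)).subtype_injective, h32]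
  have hO : ∀ N : Subgroup G, (Cfsg.generalizedFittingSubgroup ↥(Subgroup.centralizer ({z} : Set G))).map
      (Subgroup.centralizer ({z} : Set G)).subtype ≤ N → N ≤ Subgroup.centralizer ({z} : Set G) →
      (∀ c ∈ Subgroup.centralizer ({z} : Set G), ∀ n ∈ N, c * n * c⁻¹ ∈ N) → IsPGroup 2 N →
      N ≤ (Cfsg.generalizedFittingSubgroup ↥(Subgroup.centralizer ({z} : Set G))).map
      (Subgroup.centralizer ({z} : Set G)).subtype := fun N _ h1 h2 h3 => Simple.le_of_two z h1 h2 h3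
  have hnc' : ∃ a b : G, a * b ≠ b * a := by
    by_contra hcon
    push Not at hcon
    exact hnc ⟨⟨hcon⟩⟩
  have hex := NonSimple.exists_commuting z hz hnc'
  revert h hcard hO hwc
  generalize (Cfsg.generalizedFittingSubgroup ↥(Subgroup.centralizer ({z} : Set G))).map
      (Subgroup.centralizer ({z} : Set G)).subtype = Q
  intro hwc h hcard hO
  rcases exists_plus_or_minus h hcard with ⟨i, j, k, l, P⟩ | ⟨i, j, k, l, M⟩
  · rcases Cases.cases_plus hG P hO (OddDead.exists_outer hnc h hcard) with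
      ⟨i, j, k, l, w, s, h1⟩ | ⟨i, j, k, l, v, y, h1⟩ | ⟨i, j, k, l, x₁, x₂, s, h1⟩ |
      ⟨i, j, k, l, x₁, x₂, y, h1⟩ | ⟨i, j, k, l, x₁, x₂, y, s, h1⟩ | ⟨i, j, k, l, x₁, x₂, f, h1, h2⟩
    · exact (caseF1_false hnc h1 hwc).elim
    · exact (caseF2_false h1 hwc hex).elim
    · exact Or.inl (SmallExtra438.NineAGeo.recognize hnc h1)
    · exact (case9c_false h1 hwc hex).elim
    · exact Or.inr (LFour.Main.recognize _ _ _ _ _ _ _ _ _ _ h1 hwc)
    · exact (CType.case94 hnc h1 h2).elim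
  · exact (minus_false M hwc hex).elim

end Cfsg.Agent.WCLarge
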